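/-
Maximal subgroups of special linear groups of fixed small dimension: common wrappers.
-/
import Cfsg.Agent.Lib.Imprimitive.Main
import Cfsg.Agent.Lib.FieldMax.Main
import Cfsg.Agent.Lib.Aschbacher.FormField
import Cfsg.Agent.Lib.TensorMax.Main
import Cfsg.Agent.Lib.Transvec.Subspaces
import Cfsg.Agent.Lib.Transvec.SubfieldSL
import Cfsg.Agent.Lib.Transvec.AltMaximal
import Cfsg.Agent.Lib.Transvec.SympStd
import Cfsg.Agent.Lib.Transvec.HermMaximal
import Cfsg.Agent.Lib.Transvec.OrthMaximal

set_option autoImplicit false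

namespace Cfsg.Agent.SLLists

variable {F : Type*} [Field F] [Fintype F] {n : ℕ}

theorem map_conj_special (P : Matrix.GeneralLinearGroup (Fin n) F) :
    (Geo.specialLinear (Fin n) F).map (MulAut.conj P).toMonoidHom = Geo.specialLinear (Fin n) F := by
  have hN : (Geo.specialLinear (Fin n) F).Normal := MonoidHom.normal_ker _
  ext x
  constructor
  · rintro ⟨y, hy, rfl⟩
    exact hN.conj_mem y hy P
  · intro hx
    refine ⟨P⁻¹ * x * P, ?_, by simp [mul_assoc]⟩
    simpa using hN.conj_mem x hx P⁻¹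

theorem subfield (hn : 6 ≤ n) (F₀ : Subfield F) (r : ℕ) (P : Matrix.GeneralLinearGroup (Fin n) F)
    (hr : r.Prime) (hcard : Fintype.card F = Nat.card F₀ ^ r) :
    Geo.IsMaximalIn (Geo.specialLinear (Fin n) F)
      (Geo.subfieldSubgroup F₀ P ⊓ Geo.specialLinear (Fin n) F) := by
  have h := Transvec.isMaximalIn_map (MulAut.conj P)
    (Transvec.sl_subfield_maximal (n := n) hn hr hcard)
  rw [Subgroup.map_inf _ _ _ (MulAut.conj P).injective, map_conj_special] at h
  exact h

theorem field {r : ℕ} (hr : r.Prime) (hrn : r ∣ n) (hlt : r < n)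
    (K : Subalgebra F (Matrix (Fin n) (Fin n) F)) (hK : Geo.IsFieldSubalgebra r K) :
    Geo.IsMaximalIn (Geo.specialLinear (Fin n) F)
      (Geo.subalgebraNormalizer K ⊓ Geo.specialLinear (Fin n) F) := by
  haveI : Nonempty (Fin n) := ⟨⟨0, by omega⟩⟩
  have hfin := hK.finrank_eq
  letI := Aschbacher.fieldOf hK
  exact (FieldMax.maximal_of_hom (E := K) K.val (hfin.symm ▸ hr)
    (by rw [Fintype.card_fin]; exact hfin.symm ▸ hrn) (by rw [Fintype.card_fin]; exact hfin.symm ▸ hlt)
    K.range_val).2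

end Cfsg.Agent.SLLists
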